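import Cfsg.Agent.Lib.Helper35.HeOrd.U0.Check
import Cfsg.Agent.Lib.Helper35.HeOrd.U1.Check
import Cfsg.Agent.Lib.Helper35.HeOrd.U2.Check
import Cfsg.Agent.Lib.Helper35.HeOrd.U3.Check
import Cfsg.Agent.Lib.Helper35.HeOrd.U4.Check
import Cfsg.Agent.Lib.Helper35.HeOrd.U5.Check
import Cfsg.Agent.Lib.Helper35.HeOrd.Y0.Check
import Cfsg.Agent.Lib.Helper35.HeOrd.X0.Fin
import Cfsg.Agent.Lib.Helper35.Simple4

namespace Cfsg.Agent.Lib.Helper35.HeOrd

open Cfsg.Agent.Lib.Helper35 Cfsg.Spor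

set_option maxRecDepth 100000

noncomputable def I : PresIface He := coxIface He.edges He.extra PresHe.cc PresHe.extraL PresHe.R PresHe.allGens PresHe.hall PresHe.hOK PresHe.hextra
theorem up6 : Finite (wsub I.val ([] : List (List Nat))) ∧ Nat.card (wsub I.val ([] : List (List Nat))) ≤ 1 := upper_nil I.val
theorem up5 : Finite (wsub I.val [[5]]) ∧ Nat.card (wsub I.val [[5]]) ≤ 2 :=
  upper_cons 2 1 2 up6 (fun hf => card_upper_step I.val I.inv I.hinv [[5]] ([] : List (List Nat)) U5.invL U5.R U5.S 2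
    (by decide +kernel) (by decide +kernel)
    (fun b hb => I.hR _ ((by decide +kernel : ∀ b ∈ U5.R, expand [[5]] b ∈ PresHe.R) b hb))
    (by decide +kernel) U5.certData hf) (by decide +kernel)
theorem up4 : Finite (wsub I.val [[4], [5]]) ∧ Nat.card (wsub I.val [[4], [5]]) ≤ 4 :=
  upper_cons 2 2 4 up5 (fun hf => card_upper_step I.val I.inv I.hinv [[4], [5]] [[5]] U4.invL U4.R U4.S 2
    (by decide +kernel) (by decide +kernel)
    (fun b hb => I.hR _ ((by decide +kernel : ∀ b ∈ U4.R, expand [[4], [5]] b ∈ PresHe.R) b hb))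
    (by decide +kernel) U4.certData hf) (by decide +kernel)
theorem up3 : Finite (wsub I.val [[4], [5], [6]]) ∧ Nat.card (wsub I.val [[4], [5], [6]]) ≤ 8 :=
  upper_cons 2 4 8 up4 (fun hf => card_upper_step I.val I.inv I.hinv [[4], [5], [6]] [[4], [5]] U3.invL U3.R U3.S 2
    (by decide +kernel) (by decide +kernel)
    (fun b hb => I.hR _ ((by decide +kernel : ∀ b ∈ U3.R, expand [[4], [5], [6]] b ∈ PresHe.R) b hb))
    (by decide +kernel) U3.certData hf) (by decide +kernel)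
theorem up2 : Finite (wsub I.val [[3], [4], [5], [6]]) ∧ Nat.card (wsub I.val [[3], [4], [5], [6]]) ≤ 168 :=
  upper_cons 21 8 168 up3 (fun hf => card_upper_step I.val I.inv I.hinv [[3], [4], [5], [6]] [[4], [5], [6]] U2.invL U2.R U2.S 21
    (by decide +kernel) (by decide +kernel)
    (fun b hb => I.hR _ ((by decide +kernel : ∀ b ∈ U2.R, expand [[3], [4], [5], [6]] b ∈ PresHe.R) b hb))
    (by decide +kernel) U2.certData hf) (by decide +kernel)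
def RTx : List (List Nat) := [[1, 0, 1, 0, 1, 0, 1, 0], [1, 0, 1, 3, 1, 0, 1, 3], [1, 0, 1, 4, 1, 0, 1, 4],
  [1, 0, 1, 5, 1, 0, 1, 5], [1, 0, 1, 6, 1, 0, 1, 6], [4, 0, 1, 0, 1, 2, 1, 0, 1, 2]]
theorem hsq (c : Nat) : I.val c * I.val c = 1 := by
  have h := I.hinv c
  rw [show I.inv c = c from invOf_range 7 c] at h
  exact mul_eq_one_iff_eq_inv.mpr h
theorem hpair (x y : Nat) (h : [x, y, x, y] ∈ PresHe.R) : I.val x * I.val y = I.val y * I.val x := by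
  have h1 := I.hR _ h
  simp only [wval_cons, wval_nil, mul_one] at h1
  exact comm_of_pair _ _ (hsq x) (hsq y) h1
theorem hRT : ∀ w ∈ RTx, wval I.val w = 1 := by
  intro w hw
  simp only [RTx, List.mem_cons, List.not_mem_nil, or_false] at hw
  rcases hw with rfl | rfl | rfl | rfl | rfl | rfl
  · simp only [wval_cons, wval_nil, mul_one]
    have h1 := I.hR [0, 1, 0, 1, 0, 1, 0, 1] (by decide +kernel)
    simp only [wval_cons, wval_nil, mul_one] at h1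
    exact conj_four _ _ h1
  · simp only [wval_cons, wval_nil, mul_one]
    exact conj_comm _ _ _ (hsq 0) (hsq 1) (hsq 3) (hpair 0 3 (by decide +kernel)) (hpair 1 3 (by decide +kernel))
  · simp only [wval_cons, wval_nil, mul_one]
    exact conj_comm _ _ _ (hsq 0) (hsq 1) (hsq 4) (hpair 0 4 (by decide +kernel)) (hpair 1 4 (by decide +kernel))
  · simp only [wval_cons, wval_nil, mul_one]
    exact conj_comm _ _ _ (hsq 0) (hsq 1) (hsq 5) (hpair 0 5 (by decide +kernel)) (hpair 1 5 (by decide +kernel))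
  · simp only [wval_cons, wval_nil, mul_one]
    exact conj_comm _ _ _ (hsq 0) (hsq 1) (hsq 6) (hpair 0 6 (by decide +kernel)) (hpair 1 6 (by decide +kernel))
  · simp only [wval_cons, wval_nil, mul_one]
    have h1 := I.hR [1, 2, 1, 2, 1, 2] (by decide +kernel)
    have h2 := I.hR [4, 2, 1, 0, 2, 1, 0, 2, 1, 0] (by decide +kernel)
    simp only [wval_cons, wval_nil, mul_one] at h1 h2
    exact b3_center _ _ _ _ (hsq 0) (hsq 1) (hsq 2) (hsq 4) (hpair 0 2 (by decide +kernel)) h1 h2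
theorem heR : ∀ b ∈ U1.R, wval I.val (expand [[0], [2], [3], [4], [5], [6], [1, 0, 1]] b) = 1 := by
  have key : ∀ b ∈ U1.R, expand [[0], [2], [3], [4], [5], [6], [1, 0, 1]] b ∈ PresHe.R ∨ expand [[0], [2], [3], [4], [5], [6], [1, 0, 1]] b ∈ RTx := by decide +kernel
  intro b hb
  rcases key b hb with h | h
  · exact I.hR _ h
  · exact hRT _ h
theorem up1 : Finite (wsub I.val [[0], [2], [3], [4], [5], [6], [1, 0, 1]]) ∧ Nat.card (wsub I.val [[0], [2], [3], [4], [5], [6], [1, 0, 1]]) ≤ 161280 :=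
  upper_cons 960 168 161280 up2 (fun hf => card_upper_step I.val I.inv I.hinv [[0], [2], [3], [4], [5], [6], [1, 0, 1]] [[3], [4], [5], [6]] U1.invL U1.R U1.S 960
    (by decide +kernel) (by decide +kernel)
    heR
    (by decide +kernel) U1.certData hf) (by decide +kernel)
theorem up0 : Finite (wsub I.val [[0], [1], [2], [3], [4], [5], [6]]) ∧ Nat.card (wsub I.val [[0], [1], [2], [3], [4], [5], [6]]) ≤ 4030387200 :=
  upper_cons 24990 161280 4030387200 up1 (fun hf => card_upper_step I.val I.inv I.hinv [[0], [1], [2], [3], [4], [5], [6]] [[0], [2], [3], [4], [5], [6], [1, 0, 1]] PresHe.cc.invL PresHe.R U0.S 24990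
    (by decide +kernel) (by decide +kernel)
    (fun b hb => I.hR _ ((by decide +kernel : ∀ b ∈ PresHe.R, expand [[0], [1], [2], [3], [4], [5], [6]] b ∈ PresHe.R) b hb))
    (by decide +kernel) U0.certData hf) (by decide +kernel)
noncomputable abbrev pv2 := He2058.permData.pv
theorem lo4 : 1 ≤ Nat.card (wsub pv2 ([] : List (List Nat))) := lower_nil pv2
theorem lo3 : 4 ≤ Nat.card (wsub pv2 [[0], [0, 1, 0, 1, 4]]) :=
  lower_cons 4 1 4 lo4 (card_lower_step pv2 [[0], [0, 1, 0, 1, 4]] ([] : List (List Nat)) (by decide +kernel) 2057 (MonoidHom.id _) He2058.pt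
    (fun s hs i => walk_of_hom pv2 He2058.permData (MonoidHom.id _) (fun _ => rfl) s ((by decide +kernel : ∀ s ∈ ([[0], [0, 1, 0, 1, 4]] : List (List Nat)), ∀ c ∈ s, c < PresHe.cc.C) s hs) i)
    34 4 (by decide +kernel) X0.reach3 X0.fix3) (by decide +kernel)
theorem lo2 : 1440 ≤ Nat.card (wsub pv2 [[0], [3], [4], [5], [0, 1, 0, 1], [1, 2, 3, 4, 1, 2, 3, 4, 1, 2, 3, 4, 1, 2, 3, 4, 1, 2, 3, 4, 1, 2, 3, 4, 1, 2, 3, 4]]) := by
  have h := lower_cons 360 4 1440 lo3 (card_lower_step pv2 [[0], [3], [4], [5], [0, 1, 0, 1], [1, 2, 3, 4, 1, 2, 3, 4, 1, 2, 3, 4, 1, 2, 3, 4, 1, 2, 3, 4, 1, 2, 3, 4, 1, 2, 3, 4], [0], [0, 1, 0, 1, 4]] [[0], [0, 1, 0, 1, 4]] (by decide +kernel) 2057 (MonoidHom.id _) He2058.pt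
    (fun s hs i => walk_of_hom pv2 He2058.permData (MonoidHom.id _) (fun _ => rfl) s ((by decide +kernel : ∀ s ∈ ([[0], [3], [4], [5], [0, 1, 0, 1], [1, 2, 3, 4, 1, 2, 3, 4, 1, 2, 3, 4, 1, 2, 3, 4, 1, 2, 3, 4, 1, 2, 3, 4, 1, 2, 3, 4], [0], [0, 1, 0, 1, 4]] : List (List Nat)), ∀ c ∈ s, c < PresHe.cc.C) s hs) i)
    15 360 (by decide +kernel) X0.reach2 X0.fix2) (by decide +kernel)
  have e : wsub pv2 [[0], [3], [4], [5], [0, 1, 0, 1], [1, 2, 3, 4, 1, 2, 3, 4, 1, 2, 3, 4, 1, 2, 3, 4, 1, 2, 3, 4, 1, 2, 3, 4, 1, 2, 3, 4], [0], [0, 1, 0, 1, 4]] = wsub pv2 [[0], [3], [4], [5], [0, 1, 0, 1], [1, 2, 3, 4, 1, 2, 3, 4, 1, 2, 3, 4, 1, 2, 3, 4, 1, 2, 3, 4, 1, 2, 3, 4, 1, 2, 3, 4]] := wsub_append_of_factors pv2 [[0], [3], [4], [5], [0, 1, 0, 1], [1, 2, 3, 4, 1, 2, 3, 4, 1, 2, 3, 4, 1, 2, 3, 4, 1, 2, 3, 4, 1, 2, 3, 4, 1, 2, 3, 4]] [[0], [0, 1, 0, 1, 4]] [[[0]], [[0, 1, 0, 1], [4]]] (by decide +kernel)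 (by decide +kernel)
  rwa [e] at h
theorem lo1 : 1958400 ≤ Nat.card (wsub pv2 [[0], [2], [3], [4], [5], [0, 1, 0, 1], [1, 2, 3, 4, 1, 2, 3, 4, 1, 2, 3, 4, 1, 2, 3, 4, 1, 2, 3, 4, 1, 2, 3, 4, 1, 2, 3, 4]]) :=
  lower_cons 1360 1440 1958400 lo2 (card_lower_step pv2 [[0], [2], [3], [4], [5], [0, 1, 0, 1], [1, 2, 3, 4, 1, 2, 3, 4, 1, 2, 3, 4, 1, 2, 3, 4, 1, 2, 3, 4, 1, 2, 3, 4, 1, 2, 3, 4]] [[0], [3], [4], [5], [0, 1, 0, 1], [1, 2, 3, 4, 1, 2, 3, 4, 1, 2, 3, 4, 1, 2, 3, 4, 1, 2, 3, 4, 1, 2, 3, 4, 1, 2, 3, 4]] (by decide +kernel) 2057 (MonoidHom.id _) He2058.pt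
    (fun s hs i => walk_of_hom pv2 He2058.permData (MonoidHom.id _) (fun _ => rfl) s ((by decide +kernel : ∀ s ∈ ([[0], [2], [3], [4], [5], [0, 1, 0, 1], [1, 2, 3, 4, 1, 2, 3, 4, 1, 2, 3, 4, 1, 2, 3, 4, 1, 2, 3, 4, 1, 2, 3, 4, 1, 2, 3, 4]] : List (List Nat)), ∀ c ∈ s, c < PresHe.cc.C) s hs) i)
    1 1360 (by decide +kernel) X0.reach1 X0.fix1) (by decide +kernel)
theorem lo0 : 4030387200 ≤ Nat.card (wsub pv2 [[0], [1], [2], [3], [4], [5], [6]]) := by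
  have h := lower_cons 2058 1958400 4030387200 lo1 (card_lower_step pv2 [[0], [1], [2], [3], [4], [5], [6], [0], [2], [3], [4], [5], [0, 1, 0, 1], [1, 2, 3, 4, 1, 2, 3, 4, 1, 2, 3, 4, 1, 2, 3, 4, 1, 2, 3, 4, 1, 2, 3, 4, 1, 2, 3, 4]] [[0], [2], [3], [4], [5], [0, 1, 0, 1], [1, 2, 3, 4, 1, 2, 3, 4, 1, 2, 3, 4, 1, 2, 3, 4, 1, 2, 3, 4, 1, 2, 3, 4, 1, 2, 3, 4]] (by decide +kernel) 2057 (MonoidHom.id _) He2058.pt
    (fun s hs i => walk_of_hom pv2 He2058.permData (MonoidHom.id _) (fun _ => rfl) s ((by decide +kernel : ∀ s ∈ ([[0], [1], [2], [3], [4], [5], [6], [0], [2], [3], [4], [5], [0, 1, 0, 1], [1, 2, 3, 4, 1, 2, 3, 4, 1, 2, 3, 4, 1, 2, 3, 4, 1, 2, 3, 4, 1, 2, 3, 4, 1, 2, 3, 4]] : List (List Nat)), ∀ c ∈ s, c < PresHe.cc.C) s hs) i)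
    0 2058 (by decide +kernel) X0.reach0 X0.fix0) (by decide +kernel)
  have e : wsub pv2 [[0], [1], [2], [3], [4], [5], [6], [0], [2], [3], [4], [5], [0, 1, 0, 1], [1, 2, 3, 4, 1, 2, 3, 4, 1, 2, 3, 4, 1, 2, 3, 4, 1, 2, 3, 4, 1, 2, 3, 4, 1, 2, 3, 4]] = wsub pv2 [[0], [1], [2], [3], [4], [5], [6]] := wsub_append_of_letters pv2 [[0], [1], [2], [3], [4], [5], [6]] [[0], [2], [3], [4], [5], [0, 1, 0, 1], [1, 2, 3, 4, 1, 2, 3, 4, 1, 2, 3, 4, 1, 2, 3, 4, 1, 2, 3, 4, 1, 2, 3, 4, 1, 2, 3, 4]] (by decide +kernel)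
  rwa [e] at h
def cnt0 : Nat → Nat := fun k => ([1, 1360, 425, 136, 136] : List Nat).getD k 0
noncomputable def prim0 : PrimData He2058.permData 4030387200 where
  O := He2058.orbData
  r := 5
  cnt := cnt0
  hcnt := by
    intro k hk
    interval_cases k
    exacts [He2058.ocnt0, He2058.ocnt1, He2058.ocnt2, He2058.ocnt3, He2058.ocnt4]
  hsum := by decide +kernel
  hnum := by decide +kernel
  p := 7
  hp := by norm_num
  yw := Y0.yw
  hyC := by decide +kernel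
  hnd := by decide +kernel
  col := Y0.certData
theorem main : IsSimpleGroup He ∧ Nat.card He = 4030387200 :=
  simple_of_one I He2058.permData 4030387200 (by decide +kernel) up0 lo0 prim0 X0.yfix0

end Cfsg.Agent.Lib.Helper35.HeOrd
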